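import Mathlib
import Groth.Agent.GeomUnib.FibreDimSemi
import Groth.Agent.GeomUnib.DimFormula

/-! Semicontinuity of fibre dimension; saturated chains in affine domains. -/

namespace Groth.Agent.FibreSemi

open CategoryTheory AlgebraicGeometry TopologicalSpace FibreDim

universe u

variable {X S : Scheme.{u}} (f : X ⟶ S) [LocallyOfFiniteType f]

theorem isOpen_le (c : WithBot ℕ∞) : IsOpen {x : X | FlatMor.fibreDimAt f x ≤ c} := by
  rw [isOpen_iff_forall_mem_open]
  intro x hx
  obtain ⟨O, hxO, hO⟩ := GeomUnib.exists_nhds_fibreDimAt_le f x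
  exact ⟨O, fun z hz => (hO z hz).trans hx, O.2, hxO⟩

theorem dim_fiber_le_iff (s : S) (c : WithBot ℕ∞) :
    topologicalKrullDim ↑(f.fiber s) ≤ c ↔ ∀ x : X, f.base x = s → FlatMor.fibreDimAt f x ≤ c := by
  constructor
  · rintro h x rfl
    refine le_trans (localDim_le (O := Set.univ) isOpen_univ trivial) ?_
    rw [dim_homeo (Homeomorph.Set.univ _)]
    exact h
  · intro h
    refine dim_le_of_cover fun y => ?_
    obtain ⟨O, hO, hy, hdim⟩ := exists_localDim y
    refine ⟨O, hO, hy, ?_⟩
    rw [hdim]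
    have hs : f.base ((f.fiberι s).base y) = s := by
      have := f.range_fiberι s
      exact (this.le ⟨y, rfl⟩ : (f.fiberι s).base y ∈ f.base ⁻¹' {s})
    have key : ∀ (s : S) (y : f.fiber s) (x : X), f.base x = s → (f.fiberι s).base y = x →
        FlatMor.localDim ↑(f.fiber s) y = FlatMor.fibreDimAt f x := by
      rintro _ y x rfl hx
      have : f.asFiber x = y := (f.fiberι (f.base x)).isEmbedding.injective
        ((f.fiberι_asFiber x).trans hx.symm)
      rw [FlatMor.fibreDimAt, this]
    rw [key s y _ hs rfl]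
    exact h _ hs

theorem isOpen_fiber_le [IsProper f] (c : WithBot ℕ∞) :
    IsOpen {s : S | topologicalKrullDim ↑(f.fiber s) ≤ c} := by
  have h : {s : S | topologicalKrullDim ↑(f.fiber s) ≤ c} =
      (f.base '' {x : X | FlatMor.fibreDimAt f x ≤ c}ᶜ)ᶜ := by
    ext s
    simp only [Set.mem_ofPred_eq, dim_fiber_le_iff, Set.mem_compl_iff, Set.mem_image, not_exists,
      not_and]
    exact ⟨fun h x hx hxs => hx (h x hxs), fun h x hxs => by_contra fun hx => h x hx hxs⟩
  rw [h]
  exact (f.isClosedMap _ (isOpen_le f c).isClosed_compl).isOpen_compl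

theorem dim_succ_of_covBy (k A : Type u) [Field k] [CommRing A] [Algebra k A] [Algebra.FiniteType k A]
    (p q : PrimeSpectrum A) (h : p ⋖ q) :
    ringKrullDim (A ⧸ p.asIdeal) = ringKrullDim (A ⧸ q.asIdeal) + 1 := by
  let π := Ideal.Quotient.mk p.asIdeal
  have hle : p.asIdeal ≤ q.asIdeal := h.le
  have hker : RingHom.ker π ≤ q.asIdeal := by rw [Ideal.mk_ker]; exact hle
  let q' : Ideal (A ⧸ p.asIdeal) := q.asIdeal.map π
  haveI : q'.IsPrime := Ideal.map_isPrime_of_surjective Ideal.Quotient.mk_surjective hker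
  have hq' : q'.comap π = q.asIdeal := by
    rw [Ideal.comap_map_of_surjective _ Ideal.Quotient.mk_surjective, ← RingHom.ker_eq_comap_bot]
    exact sup_eq_left.mpr hker
  let e : ((A ⧸ p.asIdeal) ⧸ q') ≃+* A ⧸ q.asIdeal := DoubleQuot.quotQuotEquivQuotOfLE hle
  obtain ⟨s, r, hs, hr, l, hl, hle'⟩ := GeomUnib.exists_series_of_domain k (A ⧸ p.asIdeal) q'
  rw [ringKrullDim_eq_of_ringEquiv e] at hr
  have hlen : l.length ≤ 1 := by
    by_contra hc
    rw [not_le] at hc
    have hm : (⟨1, by omega⟩ : Fin (l.length + 1)) < Fin.last l.length := by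
      rw [Fin.lt_def]; exact hc
    have h0 : (⟨0, by omega⟩ : Fin (l.length + 1)) < ⟨1, by omega⟩ := by
      rw [Fin.lt_def]; exact Nat.one_pos
    have h1 := l.strictMono hm
    have h2 := l.strictMono h0
    set P := l ⟨1, by omega⟩
    let P' : PrimeSpectrum A := PrimeSpectrum.comap π P
    have hPq : P' < q := by
      have e1 : (PrimeSpectrum.comap π l.last).asIdeal = q.asIdeal := by
        rw [PrimeSpectrum.comap_asIdeal, hl, hq']
      refine lt_of_le_of_ne (fun x hx => e1.le ((show P.asIdeal ≤ l.last.asIdeal from h1.le) hx))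
        fun he => h1.ne (PrimeSpectrum.comap_injective_of_surjective π Ideal.Quotient.mk_surjective ?_)
      exact PrimeSpectrum.ext ((congrArg PrimeSpectrum.asIdeal he).trans e1.symm)
    have hpP : p < P' := by
      refine lt_of_le_of_ne (fun x hx => ?_) fun he => ?_
      · show π x ∈ P.asIdeal
        rw [Ideal.Quotient.eq_zero_iff_mem.mpr hx]; exact zero_mem _
      · refine h2.not_ge fun y hy => ?_
        obtain ⟨x, rfl⟩ := Ideal.Quotient.mk_surjective y
        have hx : x ∈ p.asIdeal := by rw [he]; exact hy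
        show π x ∈ _
        rw [Ideal.Quotient.eq_zero_iff_mem.mpr hx]; exact zero_mem _
    exact h.2 hpP hPq
  obtain ⟨x, hxq, hxp⟩ := Set.exists_of_ssubset (show (p.asIdeal : Set A) ⊂ q.asIdeal from h.lt)
  have hx0 : π x ∈ nonZeroDivisors (A ⧸ p.asIdeal) :=
    mem_nonZeroDivisors_of_ne_zero fun hc => hxp (Ideal.Quotient.eq_zero_iff_mem.mp hc)
  have h3 : ringKrullDim ((A ⧸ p.asIdeal) ⧸ q') ≤ ringKrullDim ((A ⧸ p.asIdeal) ⧸ Ideal.span {π x}) :=
    ringKrullDim_le_of_surjective (Ideal.Quotient.factor (Ideal.span_le.mpr (Set.singleton_subset_iff.mpr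
      (Ideal.mem_map_of_mem π hxq)))) (Ideal.Quotient.factor_surjective _)
  rw [ringKrullDim_eq_of_ringEquiv e] at h3
  have h4 := (add_le_add h3 (le_refl (1 : WithBot ℕ∞))).trans
    (ringKrullDim_quotient_succ_le_of_nonZeroDivisor hx0)
  rw [hs, hr] at h4 ⊢
  have h5 : r + 1 ≤ s := by exact_mod_cast h4
  have : s = r + 1 := by omega
  rw [this]; push_cast; rfl

theorem length_eq (k A : Type u) [Field k] [CommRing A]
    [IsDomain A] [Algebra k A] [Algebra.FiniteType k A] (c : LTSeries (PrimeSpectrum A))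
    (h0 : c.head.asIdeal = ⊥) (hmax : c.last.asIdeal.IsMaximal)
    (hsat : ∀ i : Fin c.length, c i.castSucc ⋖ c i.succ) :
    (c.length : WithBot ℕ∞) = ringKrullDim A := by
  have key : ∀ i : Fin (c.length + 1),
      ringKrullDim (A ⧸ (c i).asIdeal) = ((c.length - (i : ℕ) : ℕ) : WithBot ℕ∞) := by
    intro i
    induction i using Fin.reverseInduction with
    | last =>
      haveI := hmax
      rw [Fin.val_last, Nat.sub_self, Nat.cast_zero]
      exact ringKrullDim_eq_zero_of_isField ((Ideal.Quotient.maximal_ideal_iff_isField_quotient _).mp hmax)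
    | cast i ih =>
      rw [dim_succ_of_covBy k A _ _ (hsat i), ih, Fin.val_succ, Fin.val_castSucc]
      have : c.length - (i : ℕ) = (c.length - ((i : ℕ) + 1)) + 1 := by omega
      rw [this]; push_cast; rfl
  have := key 0
  rw [Fin.val_zero, Nat.sub_zero, show c 0 = c.head from rfl, h0,
    ringKrullDim_eq_of_ringEquiv (RingEquiv.quotientBot A)] at this
  exact this.symm

end Groth.Agent.FibreSemi
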